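import Mathlib.Algebra.BigOperators.Field
import Mathlib.Algebra.Order.BigOperators.Group.Finset
import Mathlib.Algebra.Order.BigOperators.Ring.Finset
import Mathlib.LinearAlgebra.Dimension.Constructions
import Mathlib.LinearAlgebra.Dimension.Finite
import Mathlib.LinearAlgebra.FreeModule.StrongRankCondition
import Mathlib.LinearAlgebra.Dimension.StrongRankCondition
import Mathlib.LinearAlgebra.FreeModule.PID
import Mathlib.Tactic.Ring
import Mathlib.Tactic.Linarith
import Mathlib.Tactic.FieldSimp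
import Mathlib.Tactic.Positivity

/-!
# A lattice lemma for forms of signature `(1, n)`

`A` an abelian group with a symmetric biadditive form `b`, finitely many homs `f_j : A → ℤ` whose common
kernel is in the radical of `b`, and `h` with `b h h > 0` such that `b x h = 0`, `b x x ≥ 0` imply `f x = 0`.
Then the `f_j` are bounded on `{x : |b x h| ≤ B, -B ≤ b x x}`.
-/

set_option autoImplicit false

namespace Groth.Agent.Pic13.H970.Lattice

universe v
variable {A : Type v} [AddCommGroup A]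

/-- An orthogonal family of vectors of negative square, orthogonal to `h`. -/
structure IsOrth (b : A →+ A →+ ℤ) (h : A) {n : ℕ} (w : Fin n → A) : Prop where
  perp : ∀ i, b (w i) h = 0
  neg : ∀ i, b (w i) (w i) < 0
  orth : ∀ i j, i ≠ j → b (w i) (w j) = 0

variable (b : A →+ A →+ ℤ) (hsymm : ∀ x y, b x y = b y x) (h : A)

theorem b_sum {n : ℕ} {w : Fin n → A} (hw : IsOrth b h w) (c : Fin n → ℤ) (j : Fin n) :
    b (∑ i, c i • w i) (w j) = c j * b (w j) (w j) := by
  rw [map_sum, AddMonoidHom.finsetSum_apply, Finset.sum_eq_single j]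
  · rw [map_zsmul]; simp
  · intro i _ hij
    rw [map_zsmul]
    simp [hw.orth i j hij]
  · intro hj; exact absurd (Finset.mem_univ _) hj

theorem card_le {p : ℕ} (f : A →+ (Fin p → ℤ)) (hf : ∀ x, f x = 0 → ∀ y, b x y = 0)
    {n : ℕ} {w : Fin n → A} (hw : IsOrth b h w) : n ≤ p := by
  have hli : LinearIndependent ℤ (fun i => f (w i)) := by
    rw [Fintype.linearIndependent_iff]
    intro c hc j
    have h1 : f (∑ i, c i • w i) = 0 := by
      rw [map_sum, ← hc]
      exact Finset.sum_congr rfl fun i _ => map_zsmul f (c i) (w i)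
    have h2 := hf _ h1 (w j)
    rw [b_sum b h hw] at h2
    rcases mul_eq_zero.mp h2 with h3 | h3
    · exact h3
    · exact absurd h3 (hw.neg j).ne
  have := hli.fintype_card_le_finrank
  simpa using this

/-- A maximal orthogonal family exists. -/
theorem exists_max {p : ℕ} (f : A →+ (Fin p → ℤ)) (hf : ∀ x, f x = 0 → ∀ y, b x y = 0) :
    ∃ (n : ℕ) (w : Fin n → A), IsOrth b h w ∧ ∀ (w' : Fin (n + 1) → A), ¬ IsOrth b h w' := by
  classical
  have h0 : ∃ w : Fin 0 → A, IsOrth b h w := ⟨Fin.elim0, ⟨fun i => i.elim0, fun i => i.elim0, fun i => i.elim0⟩⟩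
  let P : ℕ → Prop := fun n => ∃ w : Fin n → A, IsOrth b h w
  have hb : ∀ n, P n → n ≤ p := fun n ⟨w, hw⟩ => card_le b h f hf hw
  have hfind := Nat.findGreatest_spec (P := P) (m := 0) (n := p) (Nat.zero_le _) h0
  obtain ⟨w, hw⟩ := hfind
  refine ⟨_, w, hw, fun w' hw' => ?_⟩
  have h1 := hb _ ⟨w', hw'⟩
  have h2 := Nat.le_findGreatest (P := P) h1 ⟨w', hw'⟩
  omega

include hsymm in
/-- The orthogonal expansion with respect to a maximal family. -/
theorem expansion {p : ℕ} (f : A →+ (Fin p → ℤ)) (hf : ∀ x, f x = 0 → ∀ y, b x y = 0)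
    (hodge : ∀ x, b x h = 0 → 0 ≤ b x x → f x = 0)
    {n : ℕ} {w : Fin n → A} (hw : IsOrth b h w) (hmax : ∀ (w' : Fin (n + 1) → A), ¬ IsOrth b h w')
    (y : A) (hy : b y h = 0) :
    (∀ j, (f y j : ℚ) = ∑ i, ((b y (w i) : ℚ) / b (w i) (w i)) * f (w i) j) ∧
    (b y y : ℚ) = ∑ i, (b y (w i) : ℚ) ^ 2 / b (w i) (w i) := by
  set N : ℤ := ∏ i, b (w i) (w i) with hN
  let N' : Fin n → ℤ := fun i => ∏ j ∈ Finset.univ.erase i, b (w j) (w j)
  have hN' : ∀ i, b (w i) (w i) * N' i = N := fun i =>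
    Finset.mul_prod_erase Finset.univ (fun j => b (w j) (w j)) (Finset.mem_univ i)
  have hN0 : N ≠ 0 := Finset.prod_ne_zero_iff.mpr fun i _ => (hw.neg i).ne
  have hNq : (N : ℚ) ≠ 0 := by exact_mod_cast hN0
  set z : A := N • y - ∑ i, (N' i * b y (w i)) • w i with hz
  have hzw : ∀ j, b z (w j) = 0 := by
    intro j
    rw [hz, map_sub, AddMonoidHom.sub_apply, b_sum b h hw, map_zsmul, AddMonoidHom.coe_smul, Pi.smul_apply,
      smul_eq_mul, ← hN' j]
    ring
  have hzh : b z h = 0 := by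
    rw [hz, map_sub, AddMonoidHom.sub_apply, map_sum, AddMonoidHom.finsetSum_apply, Finset.sum_eq_zero,
      map_zsmul, AddMonoidHom.coe_smul, Pi.smul_apply, hy]
    · simp
    · intro i _
      rw [map_zsmul, AddMonoidHom.coe_smul, Pi.smul_apply, hw.perp i, smul_zero]
  have hzz : 0 ≤ b z z := by
    by_contra hneg
    push Not at hneg
    refine hmax (Fin.cons z w) ⟨?_, ?_, ?_⟩
    · intro i
      cases i using Fin.cases with
      | zero => simpa using hzh
      | succ i => simpa using hw.perp i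
    · intro i
      cases i using Fin.cases with
      | zero => simpa using hneg
      | succ i => simpa using hw.neg i
    · intro i j hij
      cases i using Fin.cases with
      | zero =>
        cases j using Fin.cases with
        | zero => exact absurd rfl hij
        | succ j => simpa using hzw j
      | succ i =>
        cases j using Fin.cases with
        | zero => simpa using (hsymm _ _).trans (hzw i)
        | succ j => simpa using hw.orth i j (fun e => hij (by rw [e]))
  have hfz : f z = 0 := hodge z hzh hzz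
  have hbz : ∀ x, b z x = 0 := hf z hfz
  have hq : ∀ i, (b (w i) (w i) : ℚ) ≠ 0 := fun i => by exact_mod_cast (hw.neg i).ne
  have hNN : ∀ i, (N' i : ℚ) = N / b (w i) (w i) := by
    intro i
    rw [eq_div_iff (hq i), ← hN' i]
    push_cast
    ring
  constructor
  · intro j
    have h1 : (f z j : ℤ) = 0 := by rw [hfz]; rfl
    rw [hz, map_sub, map_sum, Pi.sub_apply, Finset.sum_apply, map_zsmul, Pi.smul_apply] at h1
    have h2 : ((N • f y j : ℤ) : ℚ) = ((∑ i, (f ((N' i * b y (w i)) • w i)) j : ℤ) : ℚ) := by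
      have := sub_eq_zero.mp h1
      exact_mod_cast this
    have h3 : ∀ i, (f ((N' i * b y (w i)) • w i)) j = (N' i * b y (w i)) * f (w i) j := by
      intro i
      rw [map_zsmul, Pi.smul_apply, smul_eq_mul]
    rw [Finset.sum_congr rfl (fun i _ => h3 i)] at h2
    push_cast [smul_eq_mul] at h2
    apply mul_left_cancel₀ hNq
    rw [h2, Finset.mul_sum]
    refine Finset.sum_congr rfl fun i _ => ?_
    rw [hNN i]
    ring
  · have h1 := hbz y
    rw [hz, map_sub, AddMonoidHom.sub_apply, map_sum, AddMonoidHom.finsetSum_apply, map_zsmul,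
      AddMonoidHom.coe_smul, Pi.smul_apply] at h1
    have h3 : ∀ i, b ((N' i * b y (w i)) • w i) y = (N' i * b y (w i)) * b y (w i) := by
      intro i
      rw [map_zsmul, AddMonoidHom.coe_smul, Pi.smul_apply, smul_eq_mul, hsymm (w i) y]
    rw [Finset.sum_congr rfl (fun i _ => h3 i)] at h1
    have h2 : ((N • b y y : ℤ) : ℚ) = ((∑ i, (N' i * b y (w i)) * b y (w i) : ℤ) : ℚ) := by
      have := sub_eq_zero.mp h1
      exact_mod_cast this
    push_cast [smul_eq_mul] at h2
    apply mul_left_cancel₀ hNq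
    rw [h2, Finset.mul_sum]
    refine Finset.sum_congr rfl fun i _ => ?_
    rw [hNN i]
    ring

include hsymm in
/-- Boundedness on `h`-perp. -/
theorem bounded_perp {p : ℕ} (f : A →+ (Fin p → ℤ)) (hf : ∀ x, f x = 0 → ∀ y, b x y = 0)
    (hodge : ∀ x, b x h = 0 → 0 ≤ b x x → f x = 0) (B : ℤ) :
    ∃ C : ℤ, ∀ y, b y h = 0 → -B ≤ b y y → ∀ j, |f y j| ≤ C := by
  obtain ⟨n, w, hw, hmax⟩ := exists_max b h f hf
  refine ⟨∑ j, ∑ i, |B| * |f (w i) j|, fun y hy hB j => ?_⟩
  obtain ⟨h1, h2⟩ := expansion b hsymm h f hf hodge hw hmax y hy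
  have hneg : ∀ i, (b (w i) (w i) : ℚ) < 0 := fun i => by exact_mod_cast hw.neg i
  have hterm : ∀ i, (b y (w i) : ℚ) ^ 2 / b (w i) (w i) ≤ 0 := fun i =>
    div_nonpos_of_nonneg_of_nonpos (sq_nonneg _) (hneg i).le
  have hB0 : (-B : ℚ) ≤ b y y := by exact_mod_cast hB
  -- each term is at least `-B`
  have h3 : ∀ i, (-B : ℚ) ≤ (b y (w i) : ℚ) ^ 2 / b (w i) (w i) := by
    intro i
    refine hB0.trans ?_
    rw [h2, ← Finset.add_sum_erase _ _ (Finset.mem_univ i)]
    have : ∑ x ∈ Finset.univ.erase i, (b y (w x) : ℚ) ^ 2 / b (w x) (w x) ≤ 0 :=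
      Finset.sum_nonpos fun x _ => hterm x
    linarith
  have h4 : ∀ i, |(b y (w i) : ℚ) / b (w i) (w i)| ≤ |B| := by
    intro i
    have hwi : 1 ≤ -(b (w i) (w i) : ℚ) := by
      have : 1 ≤ -(b (w i) (w i)) := by have := hw.neg i; omega
      exact_mod_cast this
    set t : ℤ := b y (w i) with ht
    set c : ℚ := ((b (w i) (w i) : ℤ) : ℚ) with hc
    have hc0 : c < 0 := hneg i
    -- t^2 ≤ B * (-c)
    have h5 : (t : ℚ) ^ 2 ≤ B * (-c) := by
      have := h3 i
      rw [le_div_iff_of_neg hc0] at this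
      linarith
    rcases eq_or_ne t 0 with h0 | h0
    · rw [h0]; simp
    · have ht1 : (1 : ℚ) ≤ |(t : ℚ)| := by
        have : 1 ≤ |t| := Int.one_le_abs h0
        exact_mod_cast this
      rw [abs_div, div_le_iff₀ (abs_pos.mpr hc0.ne), abs_of_neg hc0]
      have h6 : |(t : ℚ)| ≤ (t : ℚ) ^ 2 := by
        rw [← sq_abs]; nlinarith
      have h7 : (B : ℚ) ≤ |(B : ℚ)| := le_abs_self _
      push_cast
      nlinarith
  have h5 : |(f y j : ℚ)| ≤ ∑ i, |(B : ℚ)| * |(f (w i) j : ℚ)| := by
    rw [h1 j]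
    refine (Finset.abs_sum_le_sum_abs _ _).trans (Finset.sum_le_sum fun i _ => ?_)
    rw [abs_mul]
    have := h4 i
    push_cast at this
    exact mul_le_mul_of_nonneg_right this (abs_nonneg _)
  have h6 : |f y j| ≤ ∑ i, |B| * |f (w i) j| := by exact_mod_cast h5
  refine h6.trans ?_
  exact Finset.single_le_sum (f := fun j => ∑ i, |B| * |f (w i) j|)
    (fun j _ => Finset.sum_nonneg fun i _ => mul_nonneg (abs_nonneg _) (abs_nonneg _)) (Finset.mem_univ j)

include hsymm in
/-- **The lattice lemma.** -/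
theorem bounded_of_form {p : ℕ} (f : A →+ (Fin p → ℤ)) (hf : ∀ x, f x = 0 → ∀ y, b x y = 0)
    (hh : 0 < b h h) (hodge : ∀ x, b x h = 0 → 0 ≤ b x x → f x = 0) (B : ℤ) :
    ∃ C : ℤ, ∀ x, |b x h| ≤ B → -B ≤ b x x → ∀ j, |f x j| ≤ C := by
  set m : ℤ := b h h with hm
  obtain ⟨C, hC⟩ := bounded_perp b hsymm h f hf hodge (m ^ 2 * B + m * B ^ 2)
  refine ⟨C + ∑ j, |B| * |f h j|, fun x hx hxx j => ?_⟩
  have hB : 0 ≤ B := (abs_nonneg _).trans hx
  set d : ℤ := b x h with hd
  let y : A := m • x - d • h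
  have e1 : ∀ u, b y u = m * b x u - d * b h u := by
    intro u
    change b (m • x - d • h) u = _
    rw [map_sub, AddMonoidHom.sub_apply, map_zsmul, map_zsmul]
    simp
  have hyh : b y h = 0 := by rw [e1, ← hm, ← hd]; ring
  have hyy : b y y = m ^ 2 * b x x - m * d ^ 2 := by
    rw [e1, hsymm x y, hsymm h y, hyh, e1, hsymm h x, ← hd]
    ring
  have hd2 : d ^ 2 ≤ B ^ 2 := by
    rw [← sq_abs d]
    exact pow_le_pow_left₀ (abs_nonneg _) hx 2
  have h1 : -(m ^ 2 * B + m * B ^ 2) ≤ b y y := by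
    rw [hyy]
    have : m * d ^ 2 ≤ m * B ^ 2 := mul_le_mul_of_nonneg_left hd2 hh.le
    have h2 : m ^ 2 * (-B) ≤ m ^ 2 * b x x := mul_le_mul_of_nonneg_left hxx (sq_nonneg m)
    linarith
  have h2 := hC y hyh h1 j
  have h3 : f y j = m * f x j - d * f h j := by
    change f (m • x - d • h) j = _
    rw [map_sub, map_zsmul, map_zsmul]
    simp
  have h4 : |m * f x j| ≤ C + |B| * |f h j| := by
    have : m * f x j = f y j + d * f h j := by rw [h3]; ring
    rw [this]
    refine (abs_add_le _ _).trans (add_le_add h2 ?_)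
    rw [abs_mul, abs_of_nonneg hB]
    exact mul_le_mul_of_nonneg_right hx (abs_nonneg _)
  have h5 : |f x j| ≤ |m * f x j| := by
    rw [abs_mul, abs_of_pos hh]
    have : (0 : ℤ) ≤ |f x j| := abs_nonneg _
    nlinarith
  refine h5.trans (h4.trans (add_le_add le_rfl ?_))
  exact Finset.single_le_sum (f := fun j => |B| * |f h j|)
    (fun j _ => mul_nonneg (abs_nonneg _) (abs_nonneg _)) (Finset.mem_univ j)

end Groth.Agent.Pic13.H970.Lattice
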